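import Cfsg.Agent.Lib.PowEqOne.Basic

/-!
# Numbers of elements of each order

* `numOrder G m` = number of elements of order `m`
* `card_pow_eq_sum` : `#{g ^ m = 1} = ∑_{d ∣ m} numOrder G d`
* `dvd_sum_numOrder` : Frobenius: `m ∣ |G| → m ∣ ∑_{d ∣ m} numOrder G d`
* `dvd_prime`, `dvd_prime_sq`, `dvd_two_primes`
-/

set_option autoImplicit false

namespace Cfsg.Agent.SameOrder

/-- The number of elements of order `m`. -/
noncomputable abbrev numOrder (G : Type*) [Group G] (m : ℕ) : ℕ := Nat.card {g : G // orderOf g = m}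

variable {G : Type*} [Group G]

theorem numOrder_one : numOrder G 1 = 1 :=
  (Nat.card_congr (Equiv.subtypeEquivRight fun _ => orderOf_eq_one_iff)).trans Nat.card_unique

theorem numOrder_ne_zero_iff [Finite G] {m : ℕ} : numOrder G m ≠ 0 ↔ ∃ g : G, orderOf g = m := by
  rw [Nat.card_ne_zero]
  exact ⟨fun ⟨⟨⟨g, hg⟩⟩, _⟩ => ⟨g, hg⟩, fun ⟨g, hg⟩ => ⟨⟨⟨g, hg⟩⟩, inferInstance⟩⟩

theorem numOrder_prime_ne_zero [Finite G] {p : ℕ} (hp : p.Prime) (h : p ∣ Nat.card G) :
    numOrder G p ≠ 0 := by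
  have := Fact.mk hp
  exact numOrder_ne_zero_iff.2 (exists_prime_orderOf_dvd_card' p h)

theorem card_pow_eq_sum [Finite G] {m : ℕ} (hm : m ≠ 0) :
    Nat.card {g : G // g ^ m = 1} = ∑ d ∈ m.divisors, numOrder G d := by
  classical
  letI := Fintype.ofFinite G
  simp only [numOrder, Nat.card_eq_fintype_card, Fintype.card_subtype]
  rw [Finset.card_eq_sum_card_fiberwise (f := orderOf) (t := m.divisors)]
  · refine Finset.sum_congr rfl fun d hd => ?_
    congr 1
    ext g
    simp only [Finset.mem_filter, Finset.mem_univ, true_and]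
    exact ⟨fun h => h.2, fun h => ⟨orderOf_dvd_iff_pow_eq_one.1 (h ▸ Nat.dvd_of_mem_divisors hd), h⟩⟩
  · intro g hg
    exact Nat.mem_divisors.2 ⟨orderOf_dvd_iff_pow_eq_one.2 (Finset.mem_filter.1 hg).2, hm⟩

theorem dvd_sum_numOrder [Finite G] {m : ℕ} (h : m ∣ Nat.card G) :
    m ∣ ∑ d ∈ m.divisors, numOrder G d := by
  rw [← card_pow_eq_sum fun e => Nat.card_pos.ne' (eq_zero_of_zero_dvd (e ▸ h))]
  exact PowEqOne.dvd_card_pow_eq_one h

theorem totient_dvd [Finite G] (m : ℕ) : Nat.totient m ∣ numOrder G m :=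
  PowEqOne.totient_dvd_card_orderOf m

theorem dvd_prime [Finite G] {p : ℕ} (hp : p.Prime) (h : p ∣ Nat.card G) : p ∣ 1 + numOrder G p := by
  have h1 := dvd_sum_numOrder (G := G) h
  rwa [hp.divisors, Finset.sum_insert (by simp [hp.ne_one.symm]), Finset.sum_singleton, numOrder_one] at h1

theorem dvd_prime_sq [Finite G] {p : ℕ} (hp : p.Prime) (h : p ^ 2 ∣ Nat.card G) :
    p ^ 2 ∣ 1 + numOrder G p + numOrder G (p ^ 2) := by
  have h1 := dvd_sum_numOrder (G := G) h
  rwa [Nat.sum_divisors_prime_pow hp, Finset.sum_range_succ, Finset.sum_range_succ,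
    Finset.sum_range_succ, Finset.sum_range_zero, zero_add, pow_zero, pow_one, numOrder_one] at h1

theorem dvd_two_primes [Finite G] {p q : ℕ} (hp : p.Prime) (hq : q.Prime) (hne : p ≠ q)
    (hpG : p ∣ Nat.card G) (hqG : q ∣ Nat.card G) :
    p * q ∣ 1 + numOrder G p + numOrder G q + numOrder G (p * q) := by
  have hc : p.Coprime q := (Nat.coprime_primes hp hq).2 hne
  have h1 := dvd_sum_numOrder (G := G) (hc.mul_dvd_of_dvd_of_dvd hpG hqG)
  have hd : (p * q).divisors = {1, p, q, p * q} := by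
    ext d
    simp only [Nat.mem_divisors, Finset.mem_insert, Finset.mem_singleton]
    refine ⟨fun h => ?_, ?_⟩
    · obtain ⟨a, b, ha, hb, rfl⟩ := Nat.dvd_mul.1 h.1
      rcases (Nat.dvd_prime hp).1 ha with rfl | rfl <;> rcases (Nat.dvd_prime hq).1 hb with rfl | rfl <;> simp
    · rintro (rfl | rfl | rfl | rfl) <;>
        exact ⟨by simp, mul_ne_zero hp.ne_zero hq.ne_zero⟩
  rw [hd, Finset.sum_insert (by simp [hp.ne_one.symm, hq.ne_one.symm, (one_lt_mul'' hp.one_lt hq.one_lt).ne]),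
    Finset.sum_insert (by simp [hne, hp.ne_zero, hq.ne_one]),
    Finset.sum_insert (by simp [hq.ne_zero, hp.ne_one]), Finset.sum_singleton, numOrder_one] at h1
  simpa [add_assoc] using h1

end Cfsg.Agent.SameOrder
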