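/-
A verified search for the possible numbers of elements of each order, driven by Frobenius' theorem.
* `Cfg`, `check` : the search
* `Real` : the facts about the counting function of a finite group
* `check_sound` : a successful search determines the counting function
-/
import Mathlib.Data.Nat.Totient
import Mathlib.Algebra.BigOperators.Group.Finset.Basic
import Mathlib.NumberTheory.Divisors
import Cfsg.Agent.EqLemmas

set_option autoImplicit false

namespace Cfsg.Agent.SameOrder

/-- The data of a search: the number of involutions, the other class sizes, the possible primes, the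
possible prime powers other than two with their totients, and the expected answer. -/
structure Cfg : Type where
  /-- number of involutions -/
  inv : ℕ
  /-- the other sizes -/
  sizes : List ℕ
  /-- possible primes -/
  primes : List ℕ
  /-- possible prime powers other than two, with their totients -/
  pp : List (ℕ × ℕ)
  /-- expected order -/
  order : ℕ
  /-- expected counts -/
  answer : List (ℕ × ℕ)

/-- `1 + ∑ v` over the entries `(d, v)` with `d ∣ n`. -/
def sd (s : List (ℕ × ℕ)) (n : ℕ) : ℕ := (s.map fun x => if n % x.1 = 0 then x.2 else 0).sum + 1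

/-- `1 + ∑ v` over all entries. -/
def tot (s : List (ℕ × ℕ)) : ℕ := (s.map Prod.snd).sum + 1

/-- Depth first search over the assignments of a value to each key. -/
def search (o : ℕ → List ℕ) (ok : List (ℕ × ℕ) → ℕ → ℕ → ℕ → Bool) (leaf : List (ℕ × ℕ) → Bool) :
    List ℕ → List (ℕ × ℕ) → Bool
  | [], s => leaf s
  | m :: l, s => (o m).all fun v => !ok s m v l.length || search o ok leaf l (s ++ [(m, v)])

/-- Closure and divisibility test for a new positive entry. -/
def okPos (s : List (ℕ × ℕ)) (m v : ℕ) : Bool :=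
  v == 0 || ((s.all fun x => decide (m % x.1 ≠ 0 ∨ x.2 ≠ 0)) && sd (s ++ [(m, v)]) m % m == 0)

/-- Values allowed for a prime power. -/
def opts1 (c : Cfg) (m : ℕ) : List ℕ :=
  0 :: c.sizes.filter fun v => c.pp.all fun x => decide (m % x.1 ≠ 0 ∨ v % x.2 = 0)

/-- Test for the prime power stage. -/
def ok1 (s : List (ℕ × ℕ)) (m v _ : ℕ) : Bool := okPos s m v

/-- Test for the stage with fixed group order. -/
def ok2 (c : Cfg) (N : ℕ) (s : List (ℕ × ℕ)) (m v r : ℕ) : Bool :=
  okPos s m v && sd (s ++ [(m, v)]) m % m == 0 && decide (tot s + v ≤ N) &&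
    decide (N ≤ tot s + v + r * c.sizes.foldr max 0)

/-- The exponent `a` of the prime `p` is possible. -/
def validExp (s : List (ℕ × ℕ)) (p a : ℕ) : Bool :=
  sd s (p ^ a) % (p ^ a) == 0 &&
    s.all fun x => (x.1 != p || (a == 0) == (x.2 == 0)) &&
      decide (x.2 = 0 ∨ p ^ 13 % x.1 ≠ 0 ∨ p ^ a % x.1 = 0)

/-- The possible orders with their lists of divisors. -/
def orders (s : List (ℕ × ℕ)) : List ℕ → List (ℕ × List ℕ)
  | [] => [(1, [1])]
  | p :: ps => (orders s ps).flatMap fun x => ((List.range 13).filter (validExp s p)).map fun a =>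
      (p ^ a * x.1, (List.range (a + 1)).flatMap fun i => x.2.map fun d => p ^ i * d)

/-- Final test. -/
def leaf2 (c : Cfg) (N : ℕ) (ds : List ℕ) (s : List (ℕ × ℕ)) : Bool :=
  !(tot s == N && (c.sizes.all fun v => s.any fun x => x.2 == v) && ds.all fun n => sd s n % n == 0) ||
    (N == c.order && s.all fun x => x.2 == ((c.answer.lookup x.1).getD 0))

/-- The second stage. -/
def leaf1 (c : Cfg) (s : List (ℕ × ℕ)) : Bool :=
  decide (tot s < 4096) && (orders s c.primes).all fun x =>
    decide (x.1 < tot s) ||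
      let mx := x.2.filter fun d => d != 1 && !(s.any fun y => y.1 == d)
      decide mx.Nodup && decide (mx.Pairwise fun a b => a % b ≠ 0) &&
        search (opts1 c) (ok2 c x.1) (leaf2 c x.1 x.2) mx s

/-- The primes and prime powers in `c` are all the possible ones. -/
def completeData (c : Cfg) : Bool :=
  ((List.range (c.sizes.foldr max (c.inv) + 2)).all fun p => decide (p ∈ c.primes) ||
      !((List.range p).all fun d => decide (d < 2) || p % d != 0) || decide (p < 2) ||
      (c.inv :: c.sizes).all fun v => (v + 1) % p != 0 || v % (p - 1) != 0) &&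
    (c.primes.all fun p => decide (2 ≤ p) && decide (2 * c.sizes.foldr max 0 < p ^ 13) &&
      (List.range 13).all fun k => decide (p ^ k ≤ 2) || decide (p ^ k ∈ c.pp.map Prod.fst) ||
        c.sizes.all fun v => v % (p ^ (k - 1) * (p - 1)) != 0) &&
    (c.pp.all fun x => decide (2 < x.1) && decide (Nat.totient x.1 = x.2)) && decide (c.pp.map Prod.fst).Nodup &&
    decide ((c.pp.map Prod.fst).Pairwise fun a b => a % b ≠ 0)

/-- The whole search. -/
def check (c : Cfg) : Bool :=
  completeData c && search (opts1 c) ok1 (leaf1 c) (c.pp.map Prod.fst) [(2, c.inv)]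

/-- The facts about the counting function of element orders. -/
structure Real (c : Cfg) (N : ℕ) (f : ℕ → ℕ) : Prop where
  pos : 0 < N
  one : f 1 = 1
  two : f 2 = c.inv
  inv_ne : c.inv ≠ 0
  val : ∀ m, 3 ≤ m → f m ≠ 0 → f m ∈ c.sizes
  dvdN : ∀ m, f m ≠ 0 → m ∣ N
  totient : ∀ m, m.totient ∣ f m
  down : ∀ m d, f m ≠ 0 → d ∣ m → f d ≠ 0
  frob : ∀ n, n ∣ N → n ∣ ∑ d ∈ n.divisors, f d
  total : ∑ d ∈ N.divisors, f d = N
  prime : ∀ p, p.Prime → p ∣ N → f p ≠ 0
  surj : ∀ v ∈ c.sizes, v ≠ 0 ∧ v ≠ 1 ∧ ∃ m, f m = v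

/-- The graph of `f` on a list of keys. -/
def graph (f : ℕ → ℕ) (l : List ℕ) : List (ℕ × ℕ) := l.map fun d => (d, f d)

theorem sd_graph {f : ℕ → ℕ} {keys : List ℕ} {n : ℕ} (hn : 0 < n) (h1 : f 1 = 1) (hnd : keys.Nodup)
    (hk : 1 ∉ keys) (hall : ∀ d, d ∣ n → d ≠ 1 → f d ≠ 0 → d ∈ keys) :
    sd (graph f keys) n = ∑ d ∈ n.divisors, f d := by
  have e : ((graph f keys).map fun x => if n % x.1 = 0 then x.2 else 0).sum =
      ∑ d ∈ keys.toFinset.filter (fun d => d ∣ n), f d := by
    rw [graph, List.map_map, Finset.sum_filter, List.sum_toFinset _ hnd]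
    congr 1
    refine List.map_congr_left fun d _ => ?_
    simp [Nat.dvd_iff_mod_eq_zero]
  rw [sd, e, ← h1, add_comm, ← Finset.sum_insert (f := f) (a := 1) (by simp [hk])]
  refine Finset.sum_subset (fun d hd => ?_) fun d hd hd' => ?_
  · rw [Nat.mem_divisors]
    rcases Finset.mem_insert.1 hd with rfl | hd
    · exact ⟨one_dvd n, hn.ne'⟩
    · exact ⟨(Finset.mem_filter.1 hd).2, hn.ne'⟩
  · rw [Finset.mem_insert, not_or] at hd'
    by_contra hne
    exact hd'.2 (Finset.mem_filter.2 ⟨List.mem_toFinset.2 (hall d (Nat.mem_divisors.1 hd).1 hd'.1 hne),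
      (Nat.mem_divisors.1 hd).1⟩)

theorem graph_append (f : ℕ → ℕ) (l l' : List ℕ) : graph f (l ++ l') = graph f l ++ graph f l' := List.map_append

theorem search_sound {o : ℕ → List ℕ} {ok : List (ℕ × ℕ) → ℕ → ℕ → ℕ → Bool} {leaf : List (ℕ × ℕ) → Bool}
    (f : ℕ → ℕ) : ∀ (l keys : List ℕ), search o ok leaf l (graph f keys) = true →
      (∀ m ∈ l, f m ∈ o m) →
      (∀ pre m post, l = pre ++ m :: post → ok (graph f (keys ++ pre)) m (f m) post.length = true) →
      leaf (graph f (keys ++ l)) = true := by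
  intro l
  induction l with
  | nil => intro keys h _ _; simpa [search] using h
  | cons m l ih =>
    intro keys h ho hok
    rw [search, List.all_eq_true] at h
    have h' := h (f m) (ho m List.mem_cons_self)
    have h0 := hok [] m l rfl
    rw [List.append_nil] at h0
    rw [h0, Bool.not_true, Bool.false_or, show graph f keys ++ [(m, f m)] = graph f (keys ++ [m]) by
      rw [graph_append]; rfl] at h'
    have := ih (keys ++ [m]) h' (fun x hx => ho x (List.mem_cons_of_mem _ hx)) fun pre x post e => by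
      have := hok (m :: pre) x post (by rw [e]; rfl)
      rwa [List.append_assoc, List.singleton_append]
    rwa [List.append_assoc, List.singleton_append] at this

theorem le_foldr_max : ∀ {l : List ℕ} {b v : ℕ}, v ∈ l → v ≤ l.foldr max b := by
  intro l
  induction l with
  | nil => intro b v h; simp at h
  | cons a l ih =>
    intro b v h
    rcases List.mem_cons.1 h with rfl | h
    · exact le_max_left _ _
    · exact (ih h).trans (le_max_right _ _)

theorem le_foldr_max_init : ∀ {l : List ℕ} {b : ℕ}, b ≤ l.foldr max b := by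
  intro l
  induction l with
  | nil => intro b; exact le_refl b
  | cons a l ih => intro b; exact ih.trans (le_max_right _ _)

theorem orders_mem (s : List (ℕ × ℕ)) (a : ℕ → ℕ) : ∀ ps : List ℕ, (∀ p ∈ ps, p.Prime) →
    (∀ p ∈ ps, a p < 13 ∧ validExp s p (a p) = true) →
    ∃ ds : List ℕ, ((ps.map fun p => p ^ a p).prod, ds) ∈ orders s ps ∧
      ∀ d, d ∣ (ps.map fun p => p ^ a p).prod → d ∈ ds := by
  intro ps
  induction ps with
  | nil => exact fun _ _ => ⟨[1], by simp [orders], fun d hd => by simp at hd; simp [hd]⟩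
  | cons p ps ih =>
    intro hp hv
    obtain ⟨ds, hds, hall⟩ := ih (fun x hx => hp x (List.mem_cons_of_mem _ hx))
      (fun x hx => hv x (List.mem_cons_of_mem _ hx))
    refine ⟨(List.range (a p + 1)).flatMap fun i => ds.map fun d => p ^ i * d, ?_, fun d hd => ?_⟩
    · rw [orders, List.mem_flatMap]
      refine ⟨_, hds, List.mem_map.2 ⟨a p, List.mem_filter.2 ⟨List.mem_range.2 (hv p List.mem_cons_self).1,
        (hv p List.mem_cons_self).2⟩, ?_⟩⟩
      simp
    · rw [List.map_cons, List.prod_cons, Nat.dvd_mul] at hd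
      obtain ⟨k₁, k₂, h1, h2, rfl⟩ := hd
      obtain ⟨i, hi, rfl⟩ := (Nat.dvd_prime_pow (hp p List.mem_cons_self)).1 h1
      rw [List.mem_flatMap]
      exact ⟨i, List.mem_range.2 (by omega), List.mem_map.2 ⟨k₂, hall _ h2, rfl⟩⟩

theorem orders_dvd {s : List (ℕ × ℕ)} : ∀ {ps : List ℕ} {x : ℕ × List ℕ} {d : ℕ}, x ∈ orders s ps → d ∈ x.2 →
    d ∣ x.1 := by
  intro ps
  induction ps with
  | nil =>
    intro x d hx hd
    simp [orders] at hx
    subst hx
    simp at hd
    subst hd
    exact dvd_rfl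
  | cons p ps ih =>
    intro x d hx hd
    rw [orders, List.mem_flatMap] at hx
    obtain ⟨y, hy, hx⟩ := hx
    obtain ⟨a, -, rfl⟩ := List.mem_map.1 hx
    rw [List.mem_flatMap] at hd
    obtain ⟨i, hi, hd⟩ := hd
    obtain ⟨e, he, rfl⟩ := List.mem_map.1 hd
    exact Nat.mul_dvd_mul (pow_dvd_pow p (by have := List.mem_range.1 hi; omega)) (ih hy he)

theorem mem_of_prime_power {c : Cfg} {N : ℕ} {f : ℕ → ℕ} (hR : Real c N f) {K : List ℕ}
    (hexp : ∀ p i : ℕ, p.Prime → f (p ^ i) ≠ 0 → i ≠ 0 → i < 13 ∧ p ^ i ∈ K) {m d : ℕ} (hm : m ∈ K)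
    (hd : d ∣ m) (hd1 : d ≠ 1) (hfd : f d ≠ 0) (hpow : IsPrimePow m) : d ∈ K := by
  obtain ⟨p, k, hp, -, rfl⟩ := hpow
  rw [← Nat.prime_iff] at hp
  obtain ⟨i, -, rfl⟩ := (Nat.dvd_prime_pow hp).1 hd
  exact (hexp p i hp hfd fun h => hd1 (by rw [h, pow_zero])).2

/-- A prefix contains every divisor. -/
theorem dvd_mem_prefix {keys l pre post : List ℕ} {m d : ℕ} (hl : l = pre ++ m :: post)
    (hpw : l.Pairwise fun a b => a % b ≠ 0) (hd : d ∣ m) (hmem : d ∈ keys ++ l) :
    d ∈ keys ++ pre ++ [m] := by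
  subst hl
  rcases List.mem_append.1 hmem with h | h
  · simp [h]
  rcases List.mem_append.1 h with h | h
  · simp [h]
  rcases List.mem_cons.1 h with rfl | h
  · simp
  · exfalso
    have h2 := (List.pairwise_append.1 hpw).2.1
    exact (List.pairwise_cons.1 h2).1 d h (Nat.mod_eq_zero_of_dvd hd)

theorem tot_graph (f : ℕ → ℕ) (keys : List ℕ) : tot (graph f keys) = (keys.map f).sum + 1 := by
  simp [tot, graph, List.map_map, Function.comp_def]

theorem check_sound {c : Cfg} {N : ℕ} {f : ℕ → ℕ} (hR : Real c N f) (hc : check c = true)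
    (hpr : ∀ p ∈ c.primes, p.Prime) (hpn : c.primes.Nodup) (hppw : ∀ m ∈ c.pp.map Prod.fst, IsPrimePow m) :
    N = c.order ∧ ∀ m, 2 ≤ m → (m = 2 ∨ m ∈ c.pp.map Prod.fst ∨ f m ≠ 0) → f m = (c.answer.lookup m).getD 0 := by
  simp only [check, completeData, Bool.and_eq_true] at hc
  obtain ⟨⟨⟨⟨⟨hP, hPP⟩, hbig⟩, hnd⟩, hpw⟩, hsearch⟩ := hc
  have hnd : (c.pp.map Prod.fst).Nodup := of_decide_eq_true hnd
  have hpw : (c.pp.map Prod.fst).Pairwise fun a b => a % b ≠ 0 := of_decide_eq_true hpw
  rw [List.all_eq_true] at hP hPP hbig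
  have hbig' : ∀ x ∈ c.pp, 2 < x.1 ∧ x.1.totient = x.2 := fun x hx => by simpa using hbig x hx
  -- the possible primes
  have hmemP : ∀ p, p.Prime → p ∣ N → p ∈ c.primes := by
    intro p hp hpN
    have hf := hR.prime p hp hpN
    have hv : f p ∈ c.inv :: c.sizes := by
      rcases hp.two_le.eq_or_lt with h | h
      · rw [← h, hR.two]; exact List.mem_cons_self
      · exact List.mem_cons_of_mem _ (hR.val p h hf)
    have h1 : p ∣ 1 + f p := by
      have := hR.frob p hpN
      rwa [hp.divisors, Finset.sum_pair hp.one_lt.ne, hR.one] at this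
    have h2 : p - 1 ∣ f p := Nat.totient_prime hp ▸ hR.totient p
    have hmax : f p ≤ c.sizes.foldr max c.inv := by
      rcases List.mem_cons.1 hv with h | h
      · rw [h]; exact le_foldr_max_init
      · exact le_foldr_max h
    have hle : p < c.sizes.foldr max c.inv + 2 := by
      have := Nat.le_of_dvd (by omega) h1
      omega
    by_contra hnot
    have h := hP p (List.mem_range.2 hle)
    simp only [Bool.or_eq_true, decide_eq_true_eq, Bool.not_eq_true', List.all_eq_true, List.all_eq_false] at h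
    rcases h with ((h | ⟨d, hd, h⟩) | h) | h
    · exact hnot h
    · simp at h
      rcases (Nat.dvd_prime hp).1 (Nat.dvd_of_mod_eq_zero h.2) with e | e
      · omega
      · rw [List.mem_range] at hd; omega
    · have := hp.two_le; omega
    · have := h (f p) hv
      simp [Nat.add_comm (f p) 1, Nat.mod_eq_zero_of_dvd h1, Nat.mod_eq_zero_of_dvd h2] at this
  -- the possible prime powers
  set K := 2 :: c.pp.map Prod.fst with hK
  have hKnd : K.Nodup := List.nodup_cons.2 ⟨fun h => by
    obtain ⟨x, hx, e⟩ := List.mem_map.1 h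
    have := (hbig' x hx).1
    omega, hnd⟩
  have hK2 : ∀ d ∈ K, 2 ≤ d := fun d hd => by
    rcases List.mem_cons.1 hd with rfl | h
    · exact le_refl 2
    · obtain ⟨x, hx, rfl⟩ := List.mem_map.1 h
      exact (hbig' x hx).1.le
  have hK1 : 1 ∉ K := fun h => absurd (hK2 1 h) (by norm_num)
  have hexp : ∀ p i : ℕ, p.Prime → f (p ^ i) ≠ 0 → i ≠ 0 → i < 13 ∧ p ^ i ∈ K := by
    intro p i hp hf hi
    have hpN : p ∣ N := (dvd_pow_self p hi).trans (hR.dvdN _ hf)
    have h := hPP p (hmemP p hp hpN)
    simp only [Bool.and_eq_true, Bool.or_eq_true, decide_eq_true_eq, List.all_eq_true, bne_iff_ne, ne_eq] at h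
    obtain ⟨⟨-, hlarge⟩, hk⟩ := h
    rcases Nat.lt_or_ge 2 (p ^ i) with h2 | h2
    · have hv := hR.val _ h2 hf
      have ht := hR.totient (p ^ i)
      rw [Nat.totient_prime_pow hp (Nat.pos_of_ne_zero hi)] at ht
      have hle : p ^ (i - 1) * (p - 1) ≤ c.sizes.foldr max 0 :=
        (Nat.le_of_dvd (Nat.pos_of_ne_zero hf) ht).trans (le_foldr_max hv)
      have hle2 : p ^ i ≤ 2 * (p ^ (i - 1) * (p - 1)) := by
        calc p ^ i = p ^ (i - 1) * p := by rw [← pow_succ]; congr 1; omega
          _ ≤ p ^ (i - 1) * (2 * (p - 1)) := Nat.mul_le_mul_left _ (by have := hp.two_le; omega)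
          _ = 2 * (p ^ (i - 1) * (p - 1)) := by ring
      have hi13 : i < 13 := (Nat.pow_lt_pow_iff_right hp.one_lt).1 (by omega)
      refine ⟨hi13, ?_⟩
      rcases hk i (List.mem_range.2 hi13) with (h | h) | h
      · omega
      · exact List.mem_cons_of_mem _ h
      · exact absurd (Nat.mod_eq_zero_of_dvd ht) (h _ hv)
    · have h1 : p ^ i = 2 := le_antisymm h2 (hp.two_le.trans (Nat.le_self_pow hi p))
      refine ⟨?_, h1 ▸ List.mem_cons_self⟩
      by_contra hge
      have := Nat.pow_le_pow_right hp.pos (show 13 ≤ i by omega)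
      have := Nat.pow_le_pow_left hp.two_le 13
      omega
  have hopts : ∀ m, 3 ≤ m → f m ∈ opts1 c m := by
    intro m hm
    rw [opts1]
    by_cases hf : f m = 0
    · rw [hf]; exact List.mem_cons_self
    refine List.mem_cons_of_mem _ (List.mem_filter.2 ⟨hR.val m hm hf, List.all_eq_true.2 fun x hx => ?_⟩)
    rw [decide_eq_true_eq]
    by_cases h : m % x.1 = 0
    · refine Or.inr (Nat.mod_eq_zero_of_dvd ?_)
      rw [← (hbig' x hx).2]
      exact (Nat.totient_dvd_of_dvd (Nat.dvd_of_mod_eq_zero h)).trans (hR.totient m)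
    · exact Or.inl h
  have hsd : ∀ keys : List ℕ, ∀ n, 0 < n → keys.Nodup → 1 ∉ keys → n ∣ N →
      (∀ d, d ∣ n → d ≠ 1 → f d ≠ 0 → d ∈ keys) → sd (graph f keys) n % n = 0 := fun keys n hn hkn hk1 hnN hall => by
    rw [sd_graph hn hR.one hkn hk1 hall]
    exact Nat.mod_eq_zero_of_dvd (hR.frob n hnN)
  have hclosed : ∀ keys : List ℕ, ∀ m, f m ≠ 0 →
      ((graph f keys).all fun x => decide (m % x.1 ≠ 0 ∨ x.2 ≠ 0)) = true := fun keys m hf => by
    rw [List.all_eq_true]
    rintro x hx
    obtain ⟨d, -, rfl⟩ := List.mem_map.1 hx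
    rw [decide_eq_true_eq]
    by_cases hd : m % d = 0
    · exact Or.inr (hR.down m d hf (Nat.dvd_of_mod_eq_zero hd))
    · exact Or.inl hd
  have hone : graph f [2] = [(2, c.inv)] := by simp [graph, hR.two]
  rw [← hone] at hsearch
  have hl1 := search_sound f _ [2] hsearch
    (fun m hm => hopts m (by obtain ⟨x, hx, rfl⟩ := List.mem_map.1 hm; exact (hbig' x hx).1))
    fun pre m post hl => by
    rw [ok1, okPos, Bool.or_eq_true]
    by_cases hf : f m = 0
    · exact Or.inl (by rw [hf]; rfl)
    refine Or.inr (Bool.and_eq_true_iff.2 ⟨hclosed _ m hf, ?_⟩)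
    rw [show graph f ([2] ++ pre) ++ [(m, f m)] = graph f ([2] ++ pre ++ [m]) by rw [graph_append _ _ [m]]; rfl,
      beq_iff_eq]
    have hsub : List.Sublist ([2] ++ pre ++ [m]) K := by
      rw [hK, hl, List.append_assoc]
      exact ((List.sublist_append_left (pre ++ [m]) post).trans (by simp)).cons₂ 2
    refine hsd _ m (Nat.pos_of_ne_zero fun h => ?_) (hsub.nodup hKnd) (fun h => hK1 (hsub.subset h))
      (hR.dvdN m hf) fun d hd hd1 hfd => ?_
    · subst h
      have := hR.dvdN 0 hf
      rw [Nat.zero_dvd] at this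
      exact hR.pos.ne' this
    -- the divisor is a prime power of the list
    obtain ⟨x, hx, hxm⟩ := List.mem_map.1 (hl ▸ (by simp : m ∈ pre ++ m :: post) : m ∈ c.pp.map Prod.fst)
    have hmK : m ∈ K := List.mem_cons_of_mem _ (List.mem_map.2 ⟨x, hx, hxm⟩)
    exact dvd_mem_prefix hl hpw hd (mem_of_prime_power hR hexp hmK hd hd1 hfd (hppw m (List.mem_map.2 ⟨x, hx, hxm⟩)))
  rw [List.singleton_append, ← hK] at hl1
  -- the second stage
  rw [leaf1, Bool.and_eq_true, decide_eq_true_eq, List.all_eq_true] at hl1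
  obtain ⟨htot, hl1⟩ := hl1
  set a : ℕ → ℕ := fun p => N.factorization p with ha
  have hval : ∀ p ∈ c.primes, a p < 13 ∧ validExp (graph f K) p (a p) = true := by
    intro p hpc
    have hp := hpr p hpc
    have hdvd : p ^ a p ∣ N := Nat.ordProj_dvd N p
    have hall : ∀ d, d ∣ p ^ a p → d ≠ 1 → f d ≠ 0 → d ∈ K := fun d hd hd1 hfd => by
      obtain ⟨i, -, rfl⟩ := (Nat.dvd_prime_pow hp).1 hd
      exact (hexp p i hp hfd (fun h => hd1 (by rw [h, pow_zero]))).2
    have h0 := hsd K _ (pow_pos hp.pos _) hKnd hK1 hdvd hall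
    have ha13 : a p < 13 := by
      have hle : p ^ a p ≤ sd (graph f K) (p ^ a p) := Nat.le_of_dvd (Nat.succ_pos _) (Nat.dvd_of_mod_eq_zero h0)
      have hle2 : sd (graph f K) (p ^ a p) ≤ tot (graph f K) := by
        rw [sd, tot]
        refine Nat.add_le_add_right (List.sum_le_sum fun x _ => ?_) 1
        split <;> simp
      by_contra h
      have := Nat.pow_le_pow_right hp.pos (show 13 ≤ a p by omega)
      have := Nat.pow_le_pow_left hp.two_le 13
      omega
    refine ⟨ha13, ?_⟩
    rw [validExp, Bool.and_eq_true, beq_iff_eq]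
    refine ⟨h0, List.all_eq_true.2 fun x hx => ?_⟩
    obtain ⟨d, hd, rfl⟩ := List.mem_map.1 hx
    simp only [Bool.and_eq_true, Bool.or_eq_true, decide_eq_true_eq, bne_iff_ne, beq_iff_eq, ne_eq]
    refine ⟨?_, ?_⟩
    · by_cases hdp : d = p
      · subst hdp
        refine Or.inr ?_
        have : a d = 0 ↔ f d = 0 := by
          rw [ha]
          refine ⟨fun h => by_contra fun hne => ?_, fun h => by_contra fun hne => ?_⟩
          · have := hR.dvdN d hne
            rw [hp.dvd_iff_one_le_factorization hR.pos.ne'] at this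
            simp only at h
            omega
          · exact hR.prime d hp (hp.dvd_iff_one_le_factorization hR.pos.ne' |>.2 (Nat.pos_of_ne_zero hne)) h
        by_cases hz : f d = 0
        · rw [hz, this.2 hz]
        · rw [beq_false_of_ne hz, beq_false_of_ne (fun h => hz (this.1 h))]
      · exact Or.inl hdp
    · by_cases hfd : f d = 0
      · exact Or.inl hfd
      refine Or.inr ?_
      by_cases hdiv : p ^ 13 % d = 0
      · refine Or.inr (Nat.mod_eq_zero_of_dvd ?_)
        obtain ⟨i, -, rfl⟩ := (Nat.dvd_prime_pow hp).1 (Nat.dvd_of_mod_eq_zero hdiv)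
        exact pow_dvd_pow p ((hp.pow_dvd_iff_le_factorization hR.pos.ne').1 (hR.dvdN _ hfd))
      · exact Or.inl hdiv
  obtain ⟨ds, hds, hdiv⟩ := orders_mem (graph f K) a c.primes hpr hval
  have hNprod : (c.primes.map fun p => p ^ a p).prod = N := by
    rw [← List.prod_toFinset _ hpn]
    conv_rhs => rw [← Nat.factorization_prod_pow_eq_self hR.pos.ne']
    rw [Finsupp.prod]
    refine (Finset.prod_subset (fun p hp => ?_) fun p _ hp => ?_).symm
    · rw [Nat.support_factorization, Nat.mem_primeFactors] at hp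
      exact List.mem_toFinset.2 (hmemP p hp.1 hp.2.1)
    · rw [Finsupp.notMem_support_iff] at hp
      show p ^ a p = 1
      rw [ha]
      simp [hp]
  rw [hNprod] at hds hdiv
  have h2 := hl1 _ hds
  set mx := ds.filter fun d => d != 1 && !((graph f K).any fun y => y.1 == d) with hmx
  simp only [Bool.or_eq_true, decide_eq_true_eq, Bool.and_eq_true] at h2
  -- every contributing divisor is a key
  have hcover : ∀ d, d ∣ N → d ≠ 1 → d ∈ K ++ mx := by
    intro d hd hd1
    by_cases hdK : d ∈ K
    · exact List.mem_append_left _ hdK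
    refine List.mem_append_right _ (List.mem_filter.2 ⟨hdiv d hd, ?_⟩)
    simp only [Bool.and_eq_true, bne_iff_ne, Bool.not_eq_true', List.any_eq_false, beq_iff_eq]
    refine ⟨hd1, fun x hx e => hdK ?_⟩
    obtain ⟨y, hy, rfl⟩ := List.mem_map.1 hx
    exact e ▸ hy
  have hmx1 : ∀ d ∈ mx, d ≠ 1 ∧ d ∉ K := fun d hd => by
    have := (List.mem_filter.1 hd).2
    simp [graph] at this
    exact ⟨this.1, fun h => this.2 d h rfl⟩
  rcases h2 with h2 | ⟨⟨hmnd, hmpw⟩, hs2⟩
  · exfalso
    have hle : tot (graph f K) ≤ N := by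
      rw [tot_graph, ← List.sum_toFinset _ hKnd]
      conv_rhs => rw [← hR.total]
      rw [← hR.one, add_comm, ← Finset.sum_insert (f := f) (a := 1) (by simpa using hK1)]
      refine Finset.sum_le_sum_of_ne_zero fun d _ hfd => Nat.mem_divisors.2 ⟨hR.dvdN d hfd, hR.pos.ne'⟩
    omega
  have hKmx : (K ++ mx).Nodup := List.nodup_append'.2 ⟨hKnd, hmnd, fun d hd hd' => (hmx1 d hd').2 hd⟩
  have hKmx1 : 1 ∉ K ++ mx := by
    rw [List.mem_append, not_or]
    exact ⟨hK1, fun h => (hmx1 1 h).1 rfl⟩
  have htotal : tot (graph f (K ++ mx)) = N := by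
    rw [tot_graph, ← List.sum_toFinset _ hKmx]
    conv_rhs => rw [← hR.total]
    rw [← hR.one, add_comm, ← Finset.sum_insert (f := f) (a := 1) (by simpa using hKmx1)]
    refine (Finset.sum_subset (fun d hd => ?_) fun d _ hd => ?_).symm
    · rcases eq_or_ne d 1 with h | h
      · exact h ▸ Finset.mem_insert_self _ _
      · exact Finset.mem_insert_of_mem (List.mem_toFinset.2 (hcover d (Nat.mem_divisors.1 hd).1 h))
    · by_contra hfd
      exact hd (Nat.mem_divisors.2 ⟨hR.dvdN d hfd, hR.pos.ne'⟩)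
  have hmxN : ∀ d ∈ mx, 3 ≤ d ∨ d = 0 := fun d hd => by
    obtain ⟨h1, h2⟩ := hmx1 d hd
    rw [hK, List.mem_cons, not_or] at h2
    omega
  have hl2 := search_sound f _ K hs2 (fun m hm => by
      rcases hmxN m hm with h | h
      · exact hopts m h
      · subst h
        have : f 0 = 0 := by_contra fun h => hR.pos.ne' (Nat.zero_dvd.1 (hR.dvdN 0 h))
        rw [this]; exact List.mem_cons_self)
    fun pre m post hl => by
    have hsub : List.Sublist (K ++ pre ++ [m]) (K ++ mx) := by
      rw [hl, List.append_assoc]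
      exact (List.Sublist.refl K).append (by simp)
    have hsum : tot (graph f (K ++ pre)) + f m + (post.map f).sum = N := by
      rw [← htotal, tot_graph, tot_graph, hl]
      simp [List.sum_append]
      omega
    have hpost : (post.map f).sum ≤ post.length * c.sizes.foldr max 0 := by
      refine le_of_le_of_eq (List.sum_le_card_nsmul _ (c.sizes.foldr max 0) fun v hv => ?_) (by simp)
      obtain ⟨d, hd, rfl⟩ := List.mem_map.1 hv
      by_cases hfd : f d = 0
      · omega
      refine le_foldr_max (hR.val d ?_ hfd)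
      rcases hmxN d (hl ▸ (by simp [hd] : d ∈ pre ++ m :: post)) with h | h
      · exact h
      · subst h; exact absurd (Nat.zero_dvd.1 (hR.dvdN 0 hfd)) hR.pos.ne'
    rw [ok2, show graph f (K ++ pre) ++ [(m, f m)] = graph f (K ++ pre ++ [m]) by rw [graph_append _ _ [m]]; rfl]
    simp only [Bool.and_eq_true, decide_eq_true_eq, beq_iff_eq]
    have hmN : m ∣ N := by
      have hm' : m ∈ ds := (List.mem_filter.1 (hl ▸ (by simp : m ∈ pre ++ m :: post) : m ∈ mx)).1
      exact orders_dvd hds hm'
    have hm0 : 0 < m := Nat.pos_of_ne_zero fun h => by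
      subst h; exact hR.pos.ne' (Nat.zero_dvd.1 hmN)
    have hdiv' : sd (graph f (K ++ pre ++ [m])) m % m = 0 :=
      hsd _ m hm0 (hsub.nodup hKmx) (fun h => hKmx1 (hsub.subset h)) hmN fun d hd hd1 _ =>
        dvd_mem_prefix hl hmpw hd (hcover d (hd.trans hmN) hd1)
    refine ⟨⟨⟨?_, hdiv'⟩, by omega⟩, by omega⟩
    rw [okPos, Bool.or_eq_true]
    by_cases hf : f m = 0
    · exact Or.inl (by rw [hf]; rfl)
    · refine Or.inr (Bool.and_eq_true_iff.2 ⟨hclosed _ m hf, ?_⟩)
      rw [show graph f (K ++ pre) ++ [(m, f m)] = graph f (K ++ pre ++ [m]) by rw [graph_append _ _ [m]]; rfl,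
        beq_iff_eq]
      exact hdiv'
  rw [leaf2, Bool.or_eq_true, Bool.not_eq_true'] at hl2
  have htrue : (tot (graph f (K ++ mx)) == N && (c.sizes.all fun v => (graph f (K ++ mx)).any fun x => x.2 == v) &&
      ds.all fun n => sd (graph f (K ++ mx)) n % n == 0) = true := by
    simp only [Bool.and_eq_true, beq_iff_eq, List.all_eq_true, List.any_eq_true]
    refine ⟨⟨htotal, fun v hv => ?_⟩, fun n hn => ?_⟩
    · obtain ⟨hv0, hv1, m, rfl⟩ := hR.surj v hv
      have hm1 : m ≠ 1 := fun h => by subst h; exact hv1 hR.one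
      exact ⟨_, List.mem_map.2 ⟨m, hcover m (hR.dvdN m hv0) hm1, rfl⟩, rfl⟩
    · have hnN : n ∣ N := orders_dvd hds hn
      exact hsd _ n (Nat.pos_of_dvd_of_pos hnN hR.pos) hKmx hKmx1 hnN fun d hd hd1 _ => hcover d (hd.trans hnN) hd1
  rw [htrue] at hl2
  simp only [Bool.true_eq_false, false_or, Bool.and_eq_true, beq_iff_eq, List.all_eq_true] at hl2
  refine ⟨hl2.1, fun m hm h => ?_⟩
  have hmem : m ∈ K ++ mx := by
    rcases h with h | h | h
    · exact List.mem_append_left _ (h ▸ List.mem_cons_self)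
    · exact List.mem_append_left _ (List.mem_cons_of_mem _ h)
    · exact hcover m (hR.dvdN m h) (by omega)
  exact hl2.2 _ (List.mem_map.2 ⟨m, hmem, rfl⟩)

/-- The alternating group of degree four. -/
def cfgFour : Cfg := ⟨3, [8], [2, 3], [(3, 2), (4, 2), (8, 4), (16, 8)], 12, [(2, 3), (3, 8)]⟩

/-- The alternating group of degree five. -/
def cfgFive : Cfg := ⟨15, [20, 24], [2, 3, 5],
  [(3, 2), (4, 2), (5, 4), (8, 4), (9, 6), (16, 8), (25, 20)], 60, [(2, 15), (3, 20), (5, 24)]⟩

/-- The alternating group of degree six. -/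
def cfgSix : Cfg := ⟨45, [80, 90, 144], [2, 3, 5, 7],
  [(3, 2), (4, 2), (5, 4), (7, 6), (8, 4), (9, 6), (16, 8), (25, 20), (27, 18), (32, 16)], 360,
  [(2, 45), (3, 80), (4, 90), (5, 144)]⟩

theorem check_four : check cfgFour = true := by decide +kernel
theorem check_five : check cfgFive = true := by decide +kernel
theorem check_six : check cfgSix = true := by decide +kernel

end Cfsg.Agent.SameOrder
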